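import Groth.Agent.Lib.ShrinkTri.Basic
import Groth.Agent.Lib.Gen43.Compact
import Groth.Agent.Lib.Gen43.Generator
import Groth.Agent.Lib.DerCat.ModGen
import Groth.Agent.Lib.DerCat.BrownGen
import Groth.Agent.Lib.DerCat.Compact
import Groth.Agent.Lib.DerivedOX.QCohCoprod
import Groth.Agent.Lib.DerivedOX.TildeEquiv
import Groth.Agent.Lib.DerivedOX.Grothendieck
import Groth.Agent.Lib.DerivedOX.RpushCoprod
import Groth.Agent.Lib.DerivedOX.RpushTriangulated
import Groth.Prelude.Def_CohDer

/-!
# `D_QCoh(O_X)` is compactly generated, and `Rf_*` has a right adjoint on it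

`D_QCoh(O_X)` is replaced by an equivalent triangulated category with small morphism types, in
which a perfect generator is a compact generator, so that Brown representability applies.
-/

set_option autoImplicit false
set_option linter.unusedSectionVars false
set_option linter.style.haveILetI false

universe u

open CategoryTheory Limits AlgebraicGeometry Pretriangulated

attribute [local instance] HasDerivedCategory.standard

namespace Groth.Agent.Lib.ShrinkTri.QCohGen

open Groth.Agent.Lib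

variable {X Y : Scheme.{u}}

instance locallySmall_D : LocallySmall.{u} (DCoh.D X) := ⟨fun K L => by
  let eK := DerivedCategory.Q.objObjPreimageIso K
  let eL := DerivedCategory.Q.objObjPreimageIso L
  haveI : Small.{u} (DerivedCategory.Q.obj (DerivedCategory.Q.objPreimage K) ⟶
      DerivedCategory.Q.obj (DerivedCategory.Q.objPreimage L)) := DerCat.ModGen.small_hom_standard _ _
  exact small_of_injective (f := fun φ => eK.hom ≫ φ ≫ eL.inv)
    fun a b h => (cancel_mono eL.inv).1 ((cancel_epi eK.hom).1 h)⟩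

instance isClosedUnderIsomorphisms_qc : (DCoh.IsQCohD (X := X)).IsClosedUnderIsomorphisms :=
  ⟨fun e h i => (WayOut.Scheme.qc X).prop_of_iso
    ((DerivedCategory.homologyFunctor X.Modules i).mapIso e) (h i)⟩

lemma qc_zero {K : DCoh.D X} (h : IsZero K) : DCoh.IsQCohD K := fun i =>
  DerivedOX.RpushQCoh.qc_of_isZero ((DerivedCategory.homologyFunctor X.Modules i).map_isZero h)

instance isTriangulated_qc : (DCoh.IsQCohD (X := X)).IsTriangulated where
  exists_zero := ⟨_, isZero_zero _, qc_zero (isZero_zero _)⟩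
  isStableUnderShiftBy n := ⟨fun _ hK => DerivedOX.CompactUnit.qcD_shift _ n hK⟩
  toIsTriangulatedClosed₂ := ObjectProperty.IsTriangulatedClosed₂.mk' fun T hT h₁ h₃ =>
    DerivedOX.TildeEquiv.isQCohD_mor₃ T.invRotate (inv_rot_of_distTriang _ hT)
      (DerivedOX.CompactUnit.qcD_shift _ (-1) h₃) h₁

instance locallySmall_DQCoh : LocallySmall.{u} (DCoh.DQCoh X) :=
  ⟨fun K L => small_of_injective (f := fun φ : K ⟶ L => φ.hom) fun _ _ h =>
    ObjectProperty.hom_ext _ h⟩

instance hasColimitsOfShape_D (J : Type u) : HasColimitsOfShape (Discrete J) (DCoh.D X) :=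
  ⟨fun G => haveI : HasColimit (Discrete.functor (G.obj ∘ Discrete.mk)) :=
      DerivedOX.CompactUnit.hasCoproduct J _
    hasColimit_of_iso Discrete.natIsoFunctor⟩

instance closedUnderCoproducts (J : Type u) :
    (DCoh.IsQCohD (X := X)).IsClosedUnderColimitsOfShape (Discrete J) :=
  ⟨fun K ⟨h⟩ => (DCoh.IsQCohD (X := X)).prop_of_iso
    ((coproductIsCoproduct fun j => h.diag.obj ⟨j⟩).coconePointUniqueUpToIso
      ((IsColimit.precomposeHomEquiv Discrete.natIsoFunctor.symm _).symm h.isColimit))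
    (DerivedOX.QCohCoprod.isQCohD_coproduct _ fun j => h.prop_diag_obj ⟨j⟩)⟩

/-- `D_QCoh` with small morphism types. -/
abbrev Sm (X : Scheme.{u}) : Type (u + 1) := ShrinkHoms (DCoh.DQCoh X)

/-- The equivalence. -/
noncomputable abbrev L (X : Scheme.{u}) : DCoh.DQCoh X ⥤ Sm X :=
  ShrinkHoms.functor.{u} (DCoh.DQCoh X)

instance hasCoproducts_Sm : HasCoproducts.{u} (Sm X) := fun J => by
  haveI : HasColimitsOfShape (Discrete J) (DCoh.DQCoh X) := inferInstance
  exact Adjunction.hasColimitsOfShape_of_equivalence (ShrinkHoms.inverse.{u} (DCoh.DQCoh X))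

/-- Perfect objects are compact in `Sm X`. -/
theorem isCompactObject [CompactSpace X] [QuasiSeparatedSpace X] (K : DCoh.DQCoh X)
    (hK : DCoh.IsPerfect K.obj) : CohDer.IsCompactObject ((L X).obj K) := by
  classical
  refine (DerCat.Compact.isCompactObject_iff _).2 fun ι Z f => ?_
  let Y : ι → DCoh.DQCoh X := fun i => ShrinkHoms.fromShrinkHoms (Z i)
  let P : (DCoh.IsQCohD (X := X)).FullSubcategory ⥤ DCoh.D X := (DCoh.IsQCohD (X := X)).ι
  haveI : PreservesColimitsOfShape (Discrete ι) (L X) :=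
    (ShrinkHoms.equivalence.{u} (DCoh.DQCoh X)).toAdjunction.leftAdjoint_preservesColimits.preservesColimitsOfShape
  let e : (∐ Z) ≅ (L X).obj (∐ Y) := (PreservesCoproduct.iso (L X) Y).symm
  have he : ∀ i, Sigma.ι Z i ≫ e.hom = (L X).map (Sigma.ι Y i) := fun i => by
    change Sigma.ι (fun i => (L X).obj (Y i)) i ≫ (PreservesCoproduct.iso (L X) Y).inv = _
    rw [PreservesCoproduct.inv_hom, ι_comp_sigmaComparison]
  obtain ⟨g, hg⟩ := (L X).map_surjective (f ≫ e.hom)
  haveI := DerivedOX.CompactUnit.hasCoproduct ι fun i => (Y i).obj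
  haveI : PreservesColimit (Discrete.functor Y) P := inferInstance
  let c : (∐ fun i => (Y i).obj) ≅ P.obj (∐ Y) := (PreservesCoproduct.iso P Y).symm
  obtain ⟨s, hs⟩ := Gen43.Compact.goodP X K.obj hK ι (fun i => (Y i).obj) (fun i => (Y i).property)
    (P.map g ≫ c.inv)
  rw [DerCat.FixCoprod.cut_eq_sum, Preadditive.comp_sum] at hs
  have hg' : g = ∑ i ∈ s, ObjectProperty.homMk ((P.map g ≫ c.inv) ≫ DerCat.FixCoprod.proj _ i) ≫
      Sigma.ι Y i := by
    apply P.map_injective
    rw [P.map_sum, ← cancel_mono c.inv, Preadditive.sum_comp]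
    refine hs.symm.trans (Finset.sum_congr rfl fun i _ => ?_)
    have hc : P.map (Sigma.ι Y i) ≫ c.inv = Sigma.ι (fun i => (Y i).obj) i := by
      rw [Iso.comp_inv_eq]
      exact ((congrArg (_ ≫ ·) (PreservesCoproduct.inv_hom P Y)).trans
        (ι_comp_sigmaComparison P Y i)).symm
    rw [← Category.assoc, P.map_comp, Category.assoc _ (P.map (Sigma.ι Y i)) c.inv, hc]
    rfl
  have hf : f = ∑ i ∈ s,
      (L X).map (ObjectProperty.homMk ((P.map g ≫ c.inv) ≫ DerCat.FixCoprod.proj _ i) : K ⟶ Y i) ≫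
        Sigma.ι Z i := by
    rw [← cancel_mono e.hom, ← hg, Preadditive.sum_comp]
    refine (congrArg (L X).map hg').trans ((Functor.map_sum _ _ _).trans
      (Finset.sum_congr rfl fun i _ => ?_))
    rw [Functor.map_comp]
    exact ((Category.assoc _ _ _).trans (congrArg (_ ≫ ·) (he i))).symm
  rw [hf]
  exact AddSubgroup.sum_mem _ fun i _ => DerCat.Compact.ι_comp_mem_range Z i _

/-- A generator of `D_QCoh` generates `Sm X`. -/
theorem generates {P : DCoh.D X} (hP : DCoh.IsQCohD P)
    (hgen : ∀ E : DCoh.D X, DCoh.IsQCohD E → (∀ (n : ℤ) (φ : P⟦n⟧ ⟶ E), φ = 0) → IsZero E) :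
    CohDer.Generates (fun _ : PUnit.{u + 1} => (L X).obj ⟨P, hP⟩) := fun Z hZ => by
  let K : DCoh.DQCoh X := ⟨P, hP⟩
  let Z' : DCoh.DQCoh X := ShrinkHoms.fromShrinkHoms Z
  have h0 : ∀ (n : ℤ) (φ : P⟦n⟧ ⟶ Z'.obj), φ = 0 := fun n φ => by
    refine (DerCat.Tri.hom_shift_left_eq_zero_iff P Z'.obj n).2 (fun g => ?_) φ
    let g' : K ⟶ Z'⟦-n⟧ := ObjectProperty.homMk
      (g ≫ ((DCoh.IsQCohD (X := X)).ι.commShiftIso (-n)).inv.app Z')
    have h := hZ PUnit.unit (-n) ((L X).map g' ≫ ((L X).commShiftIso (-n)).hom.app Z')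
    have h' : g' = 0 := (L X).map_injective (by
      rw [Functor.map_zero, ← cancel_mono (((L X).commShiftIso (-n)).hom.app Z'), zero_comp]
      exact h)
    have := congrArg (fun t => t.hom) h'
    exact (cancel_mono _).1 (this.trans zero_comp.symm)
  have : IsZero Z' := by
    rw [IsZero.iff_id_eq_zero]
    exact ObjectProperty.hom_ext _
      ((hgen Z'.obj Z'.property h0).eq_of_src _ _)
  exact (L X).map_isZero this

/-- `D_QCoh` of a quasi-compact quasi-separated scheme is compactly generated. -/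
theorem isCompactlyGenerated [CompactSpace X] [QuasiSeparatedSpace X] :
    CohDer.IsCompactlyGenerated (Sm X) := by
  obtain ⟨P, hP, -, hgen⟩ := Gen43.Generator.exists_generator (X := X) ⊥
    (by rw [TopologicalSpace.Opens.coe_bot]; exact isCompact_empty)
  exact ⟨PUnit, fun _ => (L X).obj ⟨P, Perfect.QCohD.isQCohD_of_isPerfect hP⟩,
    fun _ => isCompactObject _ hP,
    generates _ fun E hE h => hgen E hE (Gen43.Restrict.van_bot _) h⟩

/-- `Rf_*` on `D_QCoh`. -/
theorem isLeftAdjoint_Rpush [CompactSpace X] [QuasiSeparatedSpace X] [CompactSpace Y]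
    [QuasiSeparatedSpace Y] (f : X ⟶ Y) [DCoh.HasRpush f]
    (h : ∀ K : DCoh.D X, DCoh.IsQCohD K → DCoh.IsQCohD ((DCoh.Rpush f).obj K)) :
    (ObjectProperty.lift DCoh.IsQCohD (ObjectProperty.ι DCoh.IsQCohD ⋙ DCoh.Rpush f)
      (fun K => h K.obj K.property)).IsLeftAdjoint := by
  haveI : QuasiSeparated f := inferInstance
  haveI : QuasiCompact f := inferInstance
  let R := ObjectProperty.lift DCoh.IsQCohD (ObjectProperty.ι DCoh.IsQCohD ⋙ DCoh.Rpush f)
    (fun K => h K.obj K.property)
  change R.IsLeftAdjoint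
  haveI : R.IsTriangulated := inferInstance
  haveI : ∀ J : Type u, PreservesColimitsOfShape (Discrete J) R := fun J => ⟨fun {G} => by
    haveI : PreservesColimit
        (Discrete.functor ((G ⋙ (DCoh.IsQCohD (X := X)).ι).obj ∘ Discrete.mk)) (DCoh.Rpush f) :=
      DerivedOX.RpushCoprod.preservesColimit_Rpush f _ (fun j => (G.obj ⟨j⟩).property)
    haveI : PreservesColimit (G ⋙ (DCoh.IsQCohD (X := X)).ι) (DCoh.Rpush f) :=
      preservesColimit_of_iso_diagram _ (Discrete.natIsoFunctor (F := G ⋙ (DCoh.IsQCohD (X := X)).ι)).symm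
    haveI : PreservesColimit G (R ⋙ (DCoh.IsQCohD (X := Y)).ι) :=
      preservesColimit_of_natIso G
        (ObjectProperty.liftCompιIso _ _ (fun K => h K.obj K.property)).symm
    exact preservesColimit_of_reflects_of_preserves R (DCoh.IsQCohD (X := Y)).ι⟩
  let EX := ShrinkHoms.equivalence.{u} (DCoh.DQCoh X)
  let EY := ShrinkHoms.equivalence.{u} (DCoh.DQCoh Y)
  letI : EX.functor.CommShift ℤ := ShrinkTri.commShift
  letI : EX.inverse.CommShift ℤ := EX.commShiftInverse ℤ
  haveI := EX.commShift_of_functor ℤ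
  haveI : EX.functor.IsTriangulated := ShrinkTri.isTriangulated_functor
  haveI : EX.toAdjunction.CommShift ℤ := inferInstance
  haveI : EX.inverse.IsTriangulated := EX.toAdjunction.isTriangulated_rightAdjoint
  haveI : ∀ J : Type u, PreservesColimitsOfShape (Discrete J) EX.inverse := fun J => inferInstance
  haveI : ∀ J : Type u, PreservesColimitsOfShape (Discrete J) (L Y) := fun J =>
    EY.toAdjunction.leftAdjoint_preservesColimits.preservesColimitsOfShape
  let F : Sm X ⥤ Sm Y := EX.inverse ⋙ R ⋙ L Y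
  obtain ⟨ι, E, hc, hg⟩ := isCompactlyGenerated (X := X)
  haveI : HasColimitsOfShape (Discrete ℕ) (Sm X) :=
    hasColimitsOfShape_of_equivalence (Discrete.equivalence (Equiv.ulift.{u}))
  haveI : F.IsLeftAdjoint :=
    DerCat.Brown.isLeftAdjoint (DerCat.BrownGen.perfGen_of_compact E hc hg) F
  let e : R ≅ EX.functor ⋙ F ⋙ EY.inverse :=
    (Functor.leftUnitor R).symm ≪≫ Functor.isoWhiskerRight EX.unitIso R ≪≫
      (Functor.associator _ _ _) ≪≫
      Functor.isoWhiskerLeft EX.functor
        ((Functor.rightUnitor _).symm ≪≫ Functor.isoWhiskerLeft _ EY.unitIso ≪≫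
          (Functor.associator _ _ _).symm ≪≫
          Functor.isoWhiskerRight (Functor.associator _ _ _) _)
  haveI : (EX.functor ⋙ F ⋙ EY.inverse).IsLeftAdjoint := inferInstance
  exact Functor.isLeftAdjoint_of_iso e.symm

end Groth.Agent.Lib.ShrinkTri.QCohGen
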