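import Mathlib.CategoryTheory.Abelian.Transfer
import Mathlib.CategoryTheory.Shift.Induced
import Mathlib.CategoryTheory.Localization.Triangulated
import Mathlib.CategoryTheory.EssentiallySmall
import Mathlib.CategoryTheory.Whiskering

/-!
# `ShrinkHoms` of a pretriangulated category is pretriangulated

For a locally small pretriangulated category the equivalent category with small morphism types
inherits the shift and the distinguished triangles, so that results about categories whose index
sets live in the universe of morphisms apply.
-/

universe w v u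

set_option linter.unusedSectionVars false
set_option linter.style.haveILetI false

open CategoryTheory CategoryTheory.Limits CategoryTheory.Pretriangulated

namespace Groth.Agent.Lib.ShrinkTri

variable {C : Type u} [Category.{v} C] [LocallySmall.{w} C]

variable [HasShift C ℤ]

/-- The conjugated shifts. -/
noncomputable abbrev s (n : ℤ) : ShrinkHoms.{u} C ⥤ ShrinkHoms.{u} C :=
  ShrinkHoms.inverse.{w} C ⋙ shiftFunctor C n ⋙ ShrinkHoms.functor.{w} C

/-- Their comparison. -/
noncomputable def si (n : ℤ) :
    ShrinkHoms.functor.{w} C ⋙ s.{w} n ≅ shiftFunctor C n ⋙ ShrinkHoms.functor.{w} C :=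
  (Functor.associator _ _ _).symm ≪≫
    Functor.isoWhiskerRight (ShrinkHoms.equivalence.{w} C).unitIso.symm _ ≪≫ Functor.leftUnitor _

noncomputable instance hasShift : HasShift (ShrinkHoms.{u} C) ℤ :=
  HasShift.induced (ShrinkHoms.functor.{w} C) ℤ s.{w} si.{w}

noncomputable instance commShift : (ShrinkHoms.functor.{w} C).CommShift ℤ :=
  Functor.CommShift.ofInduced (ShrinkHoms.functor.{w} C) ℤ s.{w} si.{w}

variable [Preadditive C] [∀ n : ℤ, (shiftFunctor C n).Additive]

instance hasZeroObject [HasZeroObject C] : HasZeroObject (ShrinkHoms.{u} C) := by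
  obtain ⟨Z, hZ⟩ := HasZeroObject.zero (C := C)
  exact ⟨⟨(ShrinkHoms.functor.{w} C).obj Z, (ShrinkHoms.equivalence.{w} C).functor.map_isZero hZ⟩⟩

instance additive_shift (n : ℤ) : (shiftFunctor (ShrinkHoms.{u} C) n).Additive := by
  change (s.{w} (C := C) n).Additive
  infer_instance

variable [HasZeroObject C] [Pretriangulated C]

noncomputable instance pretriangulated : Pretriangulated (ShrinkHoms.{u} C) where
  distinguishedTriangles := (ShrinkHoms.functor.{w} C).essImageDistTriang
  isomorphic_distinguished _ hT₁ _ e :=
    (ShrinkHoms.functor.{w} C).essImageDistTriang_mem_of_iso e hT₁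
  contractible_distinguished :=
    (ShrinkHoms.functor.{w} C).contractible_mem_essImageDistTriang
  distinguished_cocone_triangle {X Y} f := by
    let L := ShrinkHoms.functor.{w} C
    obtain ⟨φ, hφ⟩ := L.map_surjective (X := ShrinkHoms.fromShrinkHoms X)
      (Y := ShrinkHoms.fromShrinkHoms Y) f
    obtain ⟨Z, g, h, H⟩ := Pretriangulated.distinguished_cocone_triangle φ
    refine ⟨L.obj Z, L.map g, L.map h ≫ (L.commShiftIso (1 : ℤ)).hom.app _, _, ?_, H⟩
    exact Triangle.isoMk _ _ (Iso.refl _) (Iso.refl _) (Iso.refl _)
      ((Category.comp_id _).trans (hφ.symm.trans (Category.id_comp _).symm))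
      ((Category.comp_id _).trans (Category.id_comp _).symm)
      (((congrArg (_ ≫ ·) (CategoryTheory.Functor.map_id _ _)).trans (Category.comp_id _)).trans
        (Category.id_comp _).symm)
  rotate_distinguished_triangle := (ShrinkHoms.functor.{w} C).rotate_essImageDistTriang
  complete_distinguished_triangle_morphism :=
    (ShrinkHoms.functor.{w} C).complete_distinguished_essImageDistTriang_morphism
      fun T₁ T₂ hT₁ hT₂ a b fac => by
        let L := ShrinkHoms.functor.{w} C
        obtain ⟨a, rfl⟩ := L.map_surjective a
        obtain ⟨b, rfl⟩ := L.map_surjective b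
        rw [← L.map_comp, ← L.map_comp] at fac
        exact ⟨L.mapTriangle.map (completeDistinguishedTriangleMorphism T₁ T₂ hT₁ hT₂ a b
          (L.map_injective fac)), rfl, rfl⟩

instance isTriangulated_functor : (ShrinkHoms.functor.{w} C).IsTriangulated :=
  ⟨fun T hT => ⟨T, Iso.refl _, hT⟩⟩

instance isTriangulated [IsTriangulated C] : IsTriangulated (ShrinkHoms.{u} C) := by
  haveI : ((ShrinkHoms.functor.{w} C).mapComposableArrows 2).EssSurj :=
    inferInstanceAs ((ShrinkHoms.equivalence.{w} C).congrRight (E := Fin 3)).functor.EssSurj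
  exact isTriangulated_of_essSurj_mapComposableArrows_two (ShrinkHoms.functor.{w} C)

end Groth.Agent.Lib.ShrinkTri
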